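import Groth.Agent.FibreMapConstr.Basic

/-!
# Fibrewise universal injectivity
-/

set_option autoImplicit false
set_option backward.isDefEq.respectTransparency false
set_option maxHeartbeats 1000000

universe u

open CategoryTheory CategoryTheory.Limits AlgebraicGeometry Topology

namespace Groth.Agent.FibreMapConstr

variable {X Y S : Scheme.{u}}

/-- The projections agree on a residue field of a point of the diagonal. -/
theorem fromSpecResidueField_fst_eq_snd (f : X ⟶ Y) {z : ↥(pullback f f)}
    (hz : z ∈ Set.range (pullback.diagonal f)) :
    (pullback f f).fromSpecResidueField z ≫ pullback.fst f f =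
      (pullback f f).fromSpecResidueField z ≫ pullback.snd f f := by
  obtain ⟨x, rfl⟩ := hz
  haveI : IsIso ((pullback.diagonal f).residueFieldMap x) := by
    refine (ConcreteCategory.isIso_iff_bijective _).2 ⟨RingHom.injective _, fun a => ?_⟩
    obtain ⟨a, rfl⟩ := Scheme.residue_surjective X x a
    obtain ⟨b, rfl⟩ := (pullback.diagonal f).stalkMap_surjective x a
    exact ⟨(pullback.diagonalObj f).residue (pullback.diagonal f x) b, ConcreteCategory.congr_hom (Scheme.residue_residueFieldMap (pullback.diagonal f) x) b⟩
  rw [← cancel_epi (Spec.map ((pullback.diagonal f).residueFieldMap x)),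
    Scheme.Hom.SpecMap_residueFieldMap_fromSpecResidueField_assoc,
    Scheme.Hom.SpecMap_residueFieldMap_fromSpecResidueField_assoc, pullback.diagonal_fst, pullback.diagonal_snd]

/-- A field point through a point of the diagonal has equal components. -/
theorem point_fst_eq_snd (f : X ⟶ Y) (K : Type u) [Field K] (q : Spec (.of K) ⟶ pullback f f)
    (hq : q (IsLocalRing.closedPoint K) ∈ Set.range (pullback.diagonal f)) :
    q ≫ pullback.fst f f = q ≫ pullback.snd f f := by
  have h := Scheme.descResidueField_stalkClosedPointTo_fromSpecResidueField K (pullback f f) q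
  rw [← h, Category.assoc, Category.assoc, fromSpecResidueField_fst_eq_snd f hq]

theorem universallyInjective_fib_iff (f : X ⟶ Y) (g : Y ⟶ S) (s : S) :
    UniversallyInjective (fib f g s) ↔
      (pullback.fst f f ≫ f ≫ g) ⁻¹' {s} ⊆ Set.range (pullback.diagonal f) := by
  rw [(tfae_universallyInjective (fib f g s)).out 0 1 rfl rfl]
  constructor
  · intro h z hz
    subst hz
    let φ := (pullback f f).fromSpecResidueField z
    let c := Spec.map ((pullback.fst f f ≫ f ≫ g).residueFieldMap z)
    have hc : (φ ≫ pullback.fst f f) ≫ (f ≫ g) = c ≫ S.fromSpecResidueField _ := by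
      rw [Category.assoc, Scheme.Hom.SpecMap_residueFieldMap_fromSpecResidueField]
    have hc' : (φ ≫ pullback.snd f f) ≫ (f ≫ g) = c ≫ S.fromSpecResidueField _ := by
      rw [← hc, Category.assoc, Category.assoc, pullback.condition_assoc]
    have hab : pullback.lift _ _ hc = pullback.lift _ _ hc' := h _ (by
      apply pullback.hom_ext
      · simp only [Category.assoc, pullback.lift_fst, pullback.lift_fst_assoc, pullback.condition]
      · simp only [Category.assoc, pullback.lift_snd])
    have hφ : φ ≫ pullback.fst f f = φ ≫ pullback.snd f f := by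
      have := congr($hab ≫ pullback.fst (f ≫ g) _)
      rwa [pullback.lift_fst, pullback.lift_fst] at this
    have hφ' : φ = (φ ≫ pullback.fst f f) ≫ pullback.diagonal f := by
      apply pullback.hom_ext
      · rw [Category.assoc, pullback.diagonal_fst, Category.comp_id]
      · rw [Category.assoc, pullback.diagonal_snd, Category.comp_id, hφ]
    refine ⟨(φ ≫ pullback.fst f f) (IsLocalRing.closedPoint _), ?_⟩
    rw [← Scheme.Hom.comp_apply, ← hφ', Scheme.fromSpecResidueField_apply]
  · intro h K _ a b hab
    dsimp only at hab
    apply (cancel_mono (pullback.fst (f ≫ g) (S.fromSpecResidueField s))).1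
    have hf : (a ≫ pullback.fst (f ≫ g) _) ≫ f = (b ≫ pullback.fst (f ≫ g) _) ≫ f := by
      have := congr($hab ≫ pullback.fst g _)
      simpa only [Category.assoc, pullback.lift_fst] using this
    let q := pullback.lift _ _ hf
    have hq : (pullback.fst f f ≫ f ≫ g) (q (IsLocalRing.closedPoint K)) = s := by
      rw [← Scheme.Hom.comp_apply, pullback.lift_fst_assoc, Category.assoc, pullback.condition, ← Category.assoc,
        Scheme.Hom.comp_apply]
      exact Set.mem_singleton_iff.1 ((Scheme.range_fromSpecResidueField s).le ⟨_, rfl⟩)
    have := point_fst_eq_snd f K q (h hq)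
    rwa [pullback.lift_fst, pullback.lift_snd] at this

theorem isLocallyConstructible_universallyInjective (f : X ⟶ Y) (g : Y ⟶ S)
    [LocallyOfFinitePresentation g] [QuasiCompact g] [QuasiSeparated g]
    [LocallyOfFinitePresentation (f ≫ g)] [QuasiCompact (f ≫ g)] [QuasiSeparated (f ≫ g)] :
    IsLocallyConstructible {s : S | UniversallyInjective (fib f g s)} := by
  haveI : LocallyOfFinitePresentation f := FlatLocus.locallyOfFinitePresentation_of_comp f g
  haveI : QuasiCompact f := QuasiCompact.of_comp f g
  haveI : QuasiSeparated f := QuasiSeparated.of_comp f g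
  simp_rw [universallyInjective_fib_iff]
  refine isLocallyConstructible_forall_fibre (pullback.fst f f ≫ f ≫ g) ?_
  haveI : LocallyOfFinitePresentation (pullback.diagonal f) := by
    haveI : LocallyOfFinitePresentation (pullback.diagonal f ≫ pullback.fst f f) := by
      rw [pullback.diagonal_fst]; infer_instance
    exact FlatLocus.locallyOfFinitePresentation_of_comp _ (pullback.fst f f)
  rw [← Set.image_univ]
  exact (pullback.diagonal f).isLocallyConstructible_image IsLocallyConstructible.univ

end Groth.Agent.FibreMapConstr
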