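import Groth.Agent.NearGen.ConstrScheme
import Groth.Agent.FlatLocus.FibreCrit

/-!
# Constructibility of properties of fibrewise morphisms
-/

set_option autoImplicit false
set_option backward.isDefEq.respectTransparency false
set_option maxHeartbeats 1000000

universe u

open CategoryTheory CategoryTheory.Limits AlgebraicGeometry Topology

namespace Groth.Agent.FibreMapConstr

variable {X Y S : Scheme.{u}} (f : X ⟶ Y) (g : Y ⟶ S) (s : S)

/-- The map of fibres. -/
noncomputable abbrev fib : pullback (f ≫ g) (S.fromSpecResidueField s) ⟶ pullback g (S.fromSpecResidueField s) :=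
  pullback.lift (pullback.fst (f ≫ g) (S.fromSpecResidueField s) ≫ f) (pullback.snd (f ≫ g) (S.fromSpecResidueField s))
    ((Category.assoc _ _ _).trans pullback.condition)

theorem fib_fst (x : ↥(pullback (f ≫ g) (S.fromSpecResidueField s))) :
    pullback.fst g (S.fromSpecResidueField s) (fib f g s x) = f (pullback.fst (f ≫ g) (S.fromSpecResidueField s) x) := by
  rw [← Scheme.Hom.comp_apply, ← Scheme.Hom.comp_apply, pullback.lift_fst]

theorem range_fst {Z : Scheme.{u}} (h : Z ⟶ S) :
    Set.range (pullback.fst h (S.fromSpecResidueField s)) = h ⁻¹' {s} := by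
  rw [Scheme.Pullback.range_fst, Scheme.range_fromSpecResidueField]

theorem fst_injective {Z : Scheme.{u}} (h : Z ⟶ S) :
    Function.Injective (pullback.fst h (S.fromSpecResidueField s)) :=
  (pullback.fst h (S.fromSpecResidueField s)).isEmbedding.injective

theorem fib_preimage (y' : ↥(pullback g (S.fromSpecResidueField s))) :
    pullback.fst (f ≫ g) (S.fromSpecResidueField s) '' (fib f g s ⁻¹' {y'}) =
      f ⁻¹' {pullback.fst g (S.fromSpecResidueField s) y'} := by
  ext x
  constructor
  · rintro ⟨x', hx', rfl⟩
    show f _ = _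
    rw [← fib_fst, Set.mem_singleton_iff.1 hx']
  · intro hx
    have hys : g (pullback.fst g (S.fromSpecResidueField s) y') = s :=
      (range_fst s g).le ⟨y', rfl⟩
    have hx' : (f ≫ g) x = s := by rw [Scheme.Hom.comp_apply, show f x = _ from hx, hys]
    obtain ⟨x', rfl⟩ : x ∈ Set.range (pullback.fst (f ≫ g) (S.fromSpecResidueField s)) := (range_fst s (f ≫ g)).ge hx'
    exact ⟨x', fst_injective s g ((fib_fst f g s x').trans hx), rfl⟩

theorem surjective_fib_iff : Function.Surjective (fib f g s) ↔ g ⁻¹' {s} ⊆ Set.range f := by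
  constructor
  · intro h y hy
    obtain ⟨y', rfl⟩ : y ∈ Set.range (pullback.fst g (S.fromSpecResidueField s)) := (range_fst s g).ge hy
    obtain ⟨x', rfl⟩ := h y'
    exact ⟨_, (fib_fst f g s x').symm⟩
  · intro h y'
    obtain ⟨x, hx⟩ := h ((range_fst s g).le ⟨y', rfl⟩)
    obtain ⟨x', hx', -⟩ := (fib_preimage f g s y').ge (show x ∈ f ⁻¹' {_} from hx)
    exact ⟨x', hx'⟩

theorem finite_fib_iff :
    (∀ y', (fib f g s ⁻¹' {y'}).Finite) ↔ ∀ y, g y = s → (f ⁻¹' {y}).Finite := by
  constructor
  · intro h y hy
    obtain ⟨y', rfl⟩ : y ∈ Set.range (pullback.fst g (S.fromSpecResidueField s)) := (range_fst s g).ge hy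
    rw [← fib_preimage]
    exact (h y').image _
  · intro h y'
    refine Set.Finite.of_finite_image ?_ (fst_injective s (f ≫ g)).injOn
    rw [fib_preimage]
    exact h _ ((range_fst s g).le ⟨y', rfl⟩)

theorem isLocallyConstructible_compl {Z : Scheme.{u}} {E : Set Z} (hE : IsLocallyConstructible E) :
    IsLocallyConstructible Eᶜ := fun x => by
  obtain ⟨U, hU, hUo, hc⟩ := hE x
  exact ⟨U, hU, hUo, hc.compl⟩

theorem isLocallyConstructible_forall_fibre [LocallyOfFinitePresentation g] [QuasiCompact g] {Z : Set Y}
    (hZ : IsLocallyConstructible Z) : IsLocallyConstructible {s : S | g ⁻¹' {s} ⊆ Z} := by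
  have h : {s : S | g ⁻¹' {s} ⊆ Z} = (g '' Zᶜ)ᶜ := by
    ext s
    constructor
    · rintro h ⟨y, hy, rfl⟩
      exact hy (h rfl)
    · intro h y hy
      by_contra hyZ
      exact h ⟨y, hyZ, hy⟩
  rw [h]
  exact isLocallyConstructible_compl (g.isLocallyConstructible_image (isLocallyConstructible_compl hZ))

theorem isLocallyConstructible_surjective [LocallyOfFinitePresentation g] [QuasiCompact g]
    [LocallyOfFinitePresentation f] [QuasiCompact f] :
    IsLocallyConstructible {s : S | Function.Surjective (fib f g s)} := by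
  simp_rw [surjective_fib_iff]
  refine isLocallyConstructible_forall_fibre g ?_
  rw [← Set.image_univ]
  exact f.isLocallyConstructible_image IsLocallyConstructible.univ

theorem finite_preimage_iff [LocallyOfFiniteType f] [QuasiCompact f] (y : Y) :
    (f ⁻¹' {y}).Finite ↔ topologicalKrullDim ↥(f.fiber y) ≤ 0 := by
  haveI : LocallyOfFiniteType (f.fiberToSpecResidueField y) := MorphismProperty.pullback_snd _ _ ‹_›
  haveI : QuasiCompact (f.fiberToSpecResidueField y) := MorphismProperty.pullback_snd _ _ ‹_›
  constructor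
  · intro h
    haveI : Finite (f ⁻¹' {y}) := h.to_subtype
    haveI : Finite ↥(f.fiber y) := Finite.of_equiv _ (f.fiberHomeo y).symm.toEquiv
    haveI : LocallyQuasiFinite (f.fiberToSpecResidueField y) :=
      LocallyQuasiFinite.of_finite_preimage_singleton _ fun _ => Set.toFinite _
    haveI : IsLocallyArtinian (f.fiber y) := IsLocallyArtinian.of_locallyQuasiFinite (f.fiberToSpecResidueField y)
    exact topologicalKrullDim_zero_of_discreteTopology _
  · intro h
    haveI : IsLocallyNoetherian (f.fiber y) := LocallyOfFiniteType.isLocallyNoetherian (f.fiberToSpecResidueField y)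
    haveI : IsLocallyArtinian (f.fiber y) := IsLocallyArtinian.of_topologicalKrullDim_le_zero h
    haveI : CompactSpace ↥(f.fiber y) := QuasiCompact.compactSpace_of_compactSpace (f.fiberToSpecResidueField y)
    haveI : Finite ↥(f.fiber y) := finite_of_compact_of_discrete
    haveI : Finite (f ⁻¹' {y}) := Finite.of_equiv _ (f.fiberHomeo y).toEquiv
    exact Set.toFinite _

theorem locallyQuasiFinite_fib_iff [LocallyOfFiniteType g] [QuasiSeparated g] [LocallyOfFiniteType (f ≫ g)]
    [QuasiCompact (f ≫ g)] : LocallyQuasiFinite (fib f g s) ↔ ∀ y, g y = s → (f ⁻¹' {y}).Finite := by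
  haveI : LocallyOfFiniteType (fib f g s ≫ pullback.snd g (S.fromSpecResidueField s)) := by
    rw [pullback.lift_snd]; infer_instance
  haveI : QuasiCompact (fib f g s ≫ pullback.snd g (S.fromSpecResidueField s)) := by
    rw [pullback.lift_snd]; infer_instance
  haveI : LocallyOfFiniteType (fib f g s) := locallyOfFiniteType_of_comp _ (pullback.snd g (S.fromSpecResidueField s))
  haveI : QuasiCompact (fib f g s) := QuasiCompact.of_comp _ (pullback.snd g (S.fromSpecResidueField s))
  rw [locallyQuasiFinite_iff_finite_preimage_singleton, finite_fib_iff]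

theorem isLocallyConstructible_locallyQuasiFinite [LocallyOfFinitePresentation g] [QuasiCompact g] [QuasiSeparated g]
    [LocallyOfFinitePresentation (f ≫ g)] [QuasiCompact (f ≫ g)] [QuasiSeparated (f ≫ g)] :
    IsLocallyConstructible {s : S | LocallyQuasiFinite (fib f g s)} := by
  haveI : LocallyOfFinitePresentation f := FlatLocus.locallyOfFinitePresentation_of_comp f g
  haveI : QuasiCompact f := QuasiCompact.of_comp f g
  haveI : QuasiSeparated f := QuasiSeparated.of_comp f g
  have h : ∀ s, LocallyQuasiFinite (fib f g s) ↔ g ⁻¹' {s} ⊆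
      {y : Y | topologicalKrullDim ↥(f.fiber y) = 0} ∪ {y : Y | topologicalKrullDim ↥(f.fiber y) = ⊥} := fun s => by
    rw [locallyQuasiFinite_fib_iff]
    refine forall₂_congr fun y _ => ?_
    rw [finite_preimage_iff]
    show _ ↔ (topologicalKrullDim ↥(f.fiber y) = 0 ∨ topologicalKrullDim ↥(f.fiber y) = ⊥)
    generalize topologicalKrullDim ↥(f.fiber y) = d
    constructor
    · intro hd
      induction d with
      | bot => exact Or.inr rfl
      | coe d => exact Or.inl (le_antisymm hd (by exact_mod_cast (zero_le : (0 : ℕ∞) ≤ d)))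
    · rintro (hd | hd)
      · exact hd.le
      · exact hd ▸ bot_le
  simp_rw [h]
  exact isLocallyConstructible_forall_fibre g
    ((NearGen.isLocallyConstructible_fibreDim f 0).union (NearGen.isLocallyConstructible_fibreDim f ⊥))

end Groth.Agent.FibreMapConstr
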